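import Groth.Agent.FFun.GenSheaf
import Groth.Agent.FFun.GoodM
import Groth.Agent.H23.TensorDesc
import Groth.Agent.OmegaLib.IdealMod
import Groth.Agent.TwistFlat.Converse
import Groth.Agent.CurveReg.GG
import Groth.Agent.MulSect.Main
import Groth.Agent.AmpleVan.Iter

/-!
# The twisted powers of an ideal sheaf form a system generated in degree zero
-/

set_option autoImplicit false
set_option linter.style.haveILetI false
set_option linter.unusedSectionVars false
set_option backward.isDefEq.respectTransparency false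
set_option backward.isDefEq.respectTransparency.types false
set_option maxHeartbeats 1000000

universe u

open CategoryTheory CategoryTheory.Limits AlgebraicGeometry TopologicalSpace Opposite
open Groth.Agent.InvX Groth.Agent.AModX

noncomputable section

attribute [local instance] Groth.Agent.QCoh.hasFiniteBiproducts

namespace Groth.Agent.PowReg

open Groth.Agent Groth.Agent.FFun Groth.Agent.FFun.Gen

variable {X : Scheme.{u}}

/-- `J ⊗ L → L`. -/
def jPair (J : X.IdealSheafData) (L : X.Modules) : H23.TensorDesc.Bilin (ClSub.idealMod J) L L where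
  b U m n := (show Γ(X, U) from OmegaSh.idealSect J U m) • n
  add_left U m m' n := by
    show (show Γ(X, U) from OmegaSh.idealSect J U (m + m')) • n = _
    rw [OmegaSh.idealSect_apply, map_add]
    exact add_smul _ _ _
  smul_left U r m n := by
    show (show Γ(X, U) from OmegaSh.idealSect J U (r • m)) • n = _
    rw [OmegaLib.idealSect_smul]
    exact mul_smul _ _ _
  add_right U m n n' := smul_add _ _ _
  smul_right U r m n := smul_comm _ _ _
  res {U V} h m n := by
    show L.presheaf.map (homOfLE h).op ((show Γ(X, U) from OmegaSh.idealSect J U m) • n) = _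
    rw [Scheme.Modules.map_smul, OmegaLib.idealSect_map]

/-- `J ⊗ L → L`. -/
def jMap (J : X.IdealSheafData) (L : X.Modules) : CohB1.tensorMod (ClSub.idealMod J) L ⟶ L :=
  H23.TensorDesc.desc (jPair J L)

theorem jMap_tmul (J : X.IdealSheafData) (L : X.Modules) (U : X.Opens) (m : Γ(ClSub.idealMod J, U)) (n : Γ(L, U)) :
    (jMap J L).app U (tmul m n) = (show Γ(X, U) from OmegaSh.idealSect J U m) • n :=
  H23.TensorDesc.desc_tmul (jPair J L) U m n

/-- On an affine open with a frame `e`, the image is `J(U) e`. -/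
theorem jMap_app_frame (J : X.IdealSheafData) (hJ : Coh.IsQCoh (ClSub.idealMod J)) {L : X.Modules}
    (hL : Coh.IsQCoh L) (U : X.affineOpens) {e : Γ(L, U.1)} (he : IsFrame e) :
    Function.Injective ((jMap J L).app U.1) ∧
      ∀ y : Γ(L, U.1), (∃ x, (jMap J L).app U.1 x = y) ↔ ∃ a ∈ J.ideal U, y = a • e := by
  have hb := TwistFlat.bijective_tmul_frame hJ hL U.2 he
  refine ⟨(injective_iff_map_eq_zero _).2 fun x hx => ?_, fun y => ⟨?_, ?_⟩⟩
  · obtain ⟨m, rfl⟩ := hb.2 x
    rw [jMap_tmul] at hx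
    have h0 : (show Γ(X, U.1) from OmegaSh.idealSect J U.1 m) = 0 := he.coord_unique le_rfl (by
      rw [res_self, zero_smul]; exact hx)
    have hm : m = 0 := OmegaLib.idealSect_injective J U.1 (by
      rw [OmegaSh.idealSect_apply, OmegaSh.idealSect_apply, map_zero]; exact h0)
    rw [hm]
    exact (congrArg (fun z => tmul z e) (zero_smul Γ(X, U.1) (0 : Γ(ClSub.idealMod J, U.1))).symm).trans
      ((tmul_smul_left _ _ _).trans (zero_smul _ _))
  · rintro ⟨x, rfl⟩
    obtain ⟨m, rfl⟩ := hb.2 x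
    exact ⟨_, OmegaLib.idealSect_mem J U m, jMap_tmul J L U.1 m e⟩
  · rintro ⟨a, ha, rfl⟩
    obtain ⟨m, hm⟩ := OmegaLib.exists_of_mem J U a ha
    exact ⟨tmul m e, (jMap_tmul J L U.1 m e).trans (by rw [hm])⟩

variable [IsLocallyNoetherian X]

theorem isQCoh_idealMod (J : X.IdealSheafData) : Coh.IsQCoh (ClSub.idealMod J) :=
  QCoh.isQCoh_kernel QCoh.isQCoh_structureModule
    (QCoh.isQCoh_pushforward _ QCoh.isQCoh_structureModule) _

theorem exists_affine_frame {L : X.Modules} (hL : PicF.IsInvertible L) (V : X.Opens) {x : X} (hx : x ∈ V) :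
    ∃ (U : X.affineOpens) (e : Γ(L, U.1)), U.1 ≤ V ∧ x ∈ U.1 ∧ IsFrame e := by
  obtain ⟨W, hxW, e, he⟩ := exists_frame hL x
  obtain ⟨_, ⟨U, hU, rfl⟩, hxU, hUW⟩ :=
    X.isBasis_affineOpens.exists_subset_of_mem_open (show x ∈ W ⊓ V from ⟨hxW, hx⟩) (W ⊓ V).isOpen
  exact ⟨⟨U, hU⟩, _, fun y hy => (hUW hy).2, hxU, he.res (fun y hy => (hUW hy).1)⟩

theorem mono_jMap (J : X.IdealSheafData) {L : X.Modules} (hL : PicF.IsInvertible L) : Mono (jMap J L) := by
  refine QCoh.mono_of_app_injective _ fun V => (injective_iff_map_eq_zero _).2 fun s hs => ?_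
  refine QCoh.eq_zero_of_locally V s fun x hx => ?_
  obtain ⟨U, e, hUV, hxU, he⟩ := exists_affine_frame hL V hx
  refine ⟨U.1, homOfLE hUV, hxU, (jMap_app_frame J (isQCoh_idealMod J) (ZeroSchX.isQCoh_inv hL) U he).1 ?_⟩
  rw [map_zero]
  show (jMap J L).app U.1 (res _ hUV s) = 0
  rw [app_res, hs, map_zero]

/-- Multiplication by a global section. -/
def mw {N : X.Modules} (L : X.Modules) (w : Γ(N, ⊤)) : L ⟶ CohB1.tensorMod L N :=
  AmpleVan.twUnit.inv.app L ≫ ((DCoh.tensorBi (X := X)).obj L).map (ofSect w)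

theorem mw_app {N : X.Modules} (L : X.Modules) (w : Γ(N, ⊤)) (U : X.Opens) (t : Γ(L, U)) :
    (mw L w).app U t = tmul t (res N (le_top : U ≤ ⊤) w) := by
  show (((DCoh.tensorBi (X := X)).obj L).map (ofSect w)).app U ((AmpleVan.twUnit.inv.app L).app U t) = _
  rw [AmpleVan.unit_inv_app, MulSect.map_tmul_right]
  congr 1
  rw [app_eq_smul, one_ofSect, one_smul]

theorem mw_mw {N : X.Modules} (hN : PicF.IsInvertible N) (L : X.Modules) (w w' : Γ(N, ⊤)) :
    mw L w ≫ mw (CohB1.tensorMod L N) w' = mw L w' ≫ mw (CohB1.tensorMod L N) w := by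
  refine Scheme.Modules.hom_ext _ _ fun V => ?_
  ext t
  rw [← sub_eq_zero]
  refine QCoh.eq_zero_of_locally V _ fun x hx => ?_
  obtain ⟨U, e, hUV, hxU, he⟩ := exists_affine_frame hN V hx
  refine ⟨U.1, homOfLE hUV, hxU, ?_⟩
  obtain ⟨c, hc⟩ := he.exists_coord le_rfl (res N (le_top : U.1 ≤ ⊤) w)
  obtain ⟨c', hc'⟩ := he.exists_coord le_rfl (res N (le_top : U.1 ≤ ⊤) w')
  rw [res_self] at hc hc'
  rw [map_sub, sub_eq_zero]
  show res _ hUV ((mw _ w').app V ((mw L w).app V t)) = res _ hUV ((mw _ w).app V ((mw L w').app V t))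
  rw [mw_app, mw_app, mw_app, mw_app, res_tmul, res_tmul, res_tmul, res_tmul, res_res, res_res, hc, hc',
    tmul_smul_right, tmul_smul_right, tmul_smul_right, tmul_smul_right, tmul_smul_left, tmul_smul_left,
    smul_comm]

variable (I : X.IdealSheafData) {N : X.Modules} (hN : PicF.IsInvertible N)

/-- The twisted powers `I^p ⊗ N^p`. -/
abbrev pw (p : ℕ) : X.Modules := CohB1.tensorMod (ClSub.idealMod (I ^ p)) (CohB1.tensorPow N p)

variable {I}

include hN in
theorem exists_lift (σ : Γ(CohB1.tensorMod (ClSub.idealMod I) N, ⊤)) (p : ℕ) :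
    ∃ t : pw I (N := N) p ⟶ pw I (N := N) (p + 1),
      t ≫ jMap (I ^ (p + 1)) (CohB1.tensorPow N (p + 1)) =
        jMap (I ^ p) (CohB1.tensorPow N p) ≫ mw (CohB1.tensorPow N p) ((jMap I N).app ⊤ σ) := by
  haveI := mono_jMap (I ^ (p + 1)) (InvX.isInvertible_tensorPow hN (p + 1))
  let j' := jMap (I ^ (p + 1)) (CohB1.tensorPow N (p + 1))
  let ψ : pw I (N := N) p ⟶ CohB1.tensorPow N (p + 1) :=
    jMap (I ^ p) (CohB1.tensorPow N p) ≫ mw (CohB1.tensorPow N p) ((jMap I N).app ⊤ σ)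
  suffices h : ψ ≫ cokernel.π j' = 0 from
    ⟨Abelian.monoLift j' ψ h, Abelian.monoLift_comp j' ψ h⟩
  have hq : ∀ q, Coh.IsQCoh (CohB1.tensorPow N q) := fun q =>
    ZeroSchX.isQCoh_inv (InvX.isInvertible_tensorPow hN q)
  have hqp : ∀ q, Coh.IsQCoh (pw I (N := N) q) := fun q => KFlatLib.isQCoh_tensor (isQCoh_idealMod _) (hq q)
  have hx : ∀ x : X, ∃ (U : X.affineOpens) (ep : Γ(CohB1.tensorPow N p, U.1)) (e : Γ(N, U.1)),
      x ∈ U.1 ∧ IsFrame ep ∧ IsFrame e := fun x => by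
    obtain ⟨W, ep, -, hxW, hep⟩ := exists_affine_frame (InvX.isInvertible_tensorPow hN p) ⊤ (x := x) trivial
    obtain ⟨U, e, hUW, hxU, he⟩ := exists_affine_frame hN W.1 hxW
    exact ⟨U, _, e, hxU, hep.res hUW, he⟩
  choose U ep e hxU hep he using hx
  refine FFun.hom_eq_zero_of_cover (hqp p) (QCoh.isQCoh_cokernel (hqp (p + 1)) (hq (p + 1)) j') _
    (fun x => (U x).1) (fun x => (U x).2) (fun x => ⟨x, hxU x⟩) fun x z => ?_
  obtain ⟨a, ha, hz⟩ := ((jMap_app_frame (I ^ p) (isQCoh_idealMod _) (hq p) (U x) (hep x)).2 _).1 ⟨z, rfl⟩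
  have hσ' : res N (le_top : (U x).1 ≤ ⊤) ((jMap I N).app ⊤ σ) =
      (jMap I N).app (U x).1 (res _ (le_top : (U x).1 ≤ ⊤) σ) := (app_res _ _ _).symm
  obtain ⟨c, hc, hσ⟩ := ((jMap_app_frame I (isQCoh_idealMod _) (ZeroSchX.isQCoh_inv hN) (U x) (he x)).2 _).1 ⟨_, hσ'.symm⟩
  have hac : a * c ∈ (I ^ (p + 1)).ideal (U x) := by
    rw [Scheme.IdealSheafData.ideal_pow] at ha ⊢
    simp only [Pi.pow_apply] at ha ⊢
    rw [pow_succ]
    exact Ideal.mul_mem_mul ha hc
  obtain ⟨y, hy⟩ := ((jMap_app_frame (I ^ (p + 1)) (isQCoh_idealMod _) (hq (p + 1)) (U x)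
    (isFrame_tmul (hep x) (he x))).2 _).2 ⟨a * c, hac, rfl⟩
  show (cokernel.π j').app (U x).1 ((mw _ _).app (U x).1 ((jMap (I ^ p) _).app (U x).1 z)) = 0
  rw [mw_app, hz, hσ, tmul_smul_left, tmul_smul_right, ← mul_smul]
  refine (congrArg ((cokernel.π j').app (U x).1) hy.symm).trans ?_
  exact congr(($(cokernel.condition j')).app (U x).1 y)

variable {r : ℕ} (σ : Fin r → Γ(CohB1.tensorMod (ClSub.idealMod I) N, ⊤))

/-- The system of the twisted powers with the operators given by sections of `I ⊗ N`. -/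
def powSys : Sys X r where
  G p := pw I (N := N) p
  t p i := (exists_lift hN (σ i) p).choose
  comm p i j := by
    haveI := mono_jMap (I ^ (p + 1 + 1)) (InvX.isInvertible_tensorPow hN (p + 1 + 1))
    rw [← cancel_mono (jMap (I ^ (p + 1 + 1)) (CohB1.tensorPow N (p + 1 + 1))), Category.assoc, Category.assoc,
      (exists_lift hN (σ i) (p + 1)).choose_spec, (exists_lift hN (σ j) (p + 1)).choose_spec,
      ← Category.assoc, ← Category.assoc,
      (exists_lift hN (σ i) p).choose_spec, (exists_lift hN (σ j) p).choose_spec, Category.assoc, Category.assoc]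
    exact congrArg _ (mw_mw hN _ _ _)

theorem powSys_t_jMap (p : ℕ) (i : Fin r) :
    (powSys hN σ).t p i ≫ jMap (I ^ (p + 1)) (CohB1.tensorPow N (p + 1)) =
      jMap (I ^ p) (CohB1.tensorPow N p) ≫ mw (CohB1.tensorPow N p) ((jMap I N).app ⊤ (σ i)) :=
  (exists_lift hN (σ i) p).choose_spec

theorem isCoh_powSys (p : ℕ) : Coh.IsCoh ((powSys hN σ).G p) :=
  haveI : Mono (ClSub.idealModι (I ^ p)) := by unfold ClSub.idealModι; infer_instance
  AmpleVan.isCoh_tensor (QCoh.isCoh_of_mono (ClSub.idealModι _) QCoh.isCoh_structureModule' (isQCoh_idealMod _))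
    (AmpleVan.isCoh_invertible (InvX.isInvertible_tensorPow hN p))

/-- If the sections span on affines, the system is generated in degree zero. -/
theorem genFrom_powSys
    (hσ : ∀ (U : X.affineOpens) (y : Γ(CohB1.tensorMod (ClSub.idealMod I) N, U.1)),
      ∃ c : Fin r → Γ(X, U.1), y = ∑ i, c i • res _ (le_top : U.1 ≤ ⊤) (σ i)) :
    (powSys hN σ).GenFrom 0 := by
  intro p _
  have hq : ∀ q, Coh.IsQCoh (CohB1.tensorPow N q) := fun q =>
    ZeroSchX.isQCoh_inv (InvX.isInvertible_tensorPow hN q)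
  have hC := QCoh.isCoh_cokernel (QCoh.isCoh_biproduct _ fun _ : ULift.{u} (Fin r) => isCoh_powSys hN σ p).1
    (isCoh_powSys hN σ (p + 1)) ((powSys hN σ).tAll p)
  have hx : ∀ x : X, ∃ (U : X.affineOpens) (ep : Γ(CohB1.tensorPow N p, U.1)) (e : Γ(N, U.1)),
      x ∈ U.1 ∧ IsFrame ep ∧ IsFrame e := fun x => by
    obtain ⟨W, ep, -, hxW, hep⟩ := exists_affine_frame (InvX.isInvertible_tensorPow hN p) ⊤ (x := x) trivial
    obtain ⟨U, e, hUW, hxU, he⟩ := exists_affine_frame hN W.1 hxW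
    exact ⟨U, _, e, hxU, hep.res hUW, he⟩
  choose U ep e hxU hep he using hx
  refine Preadditive.epi_of_isZero_cokernel _ (QCoh.isZero_of_cover hC.1 (fun x => (U x).1)
    (fun x => (U x).2) (fun x => ⟨x, hxU x⟩) fun x => subsingleton_of_forall_eq 0 fun q => ?_)
  obtain ⟨z, rfl⟩ := QCoh.app_surjective_of_epi (isCoh_powSys hN σ (p + 1)).1 hC.1
    (cokernel.π ((powSys hN σ).tAll p)) (U x).2 q
  let π := cokernel.π ((powSys hN σ).tAll p)
  have fI := jMap_app_frame I (isQCoh_idealMod _) (ZeroSchX.isQCoh_inv hN) (U x) (he x)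
  have fp := jMap_app_frame (I ^ p) (isQCoh_idealMod _) (hq p) (U x) (hep x)
  have f1 := jMap_app_frame (I ^ (p + 1)) (isQCoh_idealMod _) (hq (p + 1)) (U x) (isFrame_tmul (hep x) (he x))
  choose c hc hcσ using fun i => (fI.2 _).1
    ⟨res _ (le_top : (U x).1 ≤ ⊤) (σ i), app_res (jMap I N) (le_top : (U x).1 ≤ ⊤) (σ i)⟩
  obtain ⟨a, ha, hz⟩ := (f1.2 _).1 ⟨z, rfl⟩
  have key : ∀ b ∈ (I ^ p).ideal (U x), ∀ i, ∀ z : Γ(pw I (N := N) (p + 1), (U x).1),
      (jMap (I ^ (p + 1)) (CohB1.tensorPow N (p + 1))).app (U x).1 z = (b * c i) • tmul (ep x) (e x) →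
      π.app (U x).1 z = 0 := by
    intro b hb i z hz
    obtain ⟨y, hy⟩ := (fp.2 _).2 ⟨b, hb, rfl⟩
    have h : z = ((powSys hN σ).t p i).app (U x).1 y := by
      refine f1.1 (hz.trans ?_)
      refine Eq.trans ?_ (congr(($(powSys_t_jMap hN σ p i)).app (U x).1 y)).symm
      show _ = (mw _ _).app (U x).1 ((jMap (I ^ p) _).app (U x).1 y)
      rw [mw_app, hy, hcσ i, tmul_smul_left, tmul_smul_right, ← mul_smul]
    rw [h]
    have e0 : (powSys hN σ).t p i ≫ π = 0 := by
      rw [← biproduct.ι_desc (fun i : ULift.{u} (Fin r) => (powSys hN σ).t p i.down) ⟨i⟩, Category.assoc]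
      exact (congrArg _ (cokernel.condition _)).trans comp_zero
    exact congr(($e0).app (U x).1 y)
  have hle : (I ^ (p + 1)).ideal (U x) ≤ (I ^ p).ideal (U x) * Ideal.span (Set.range c) := by
    simp only [Scheme.IdealSheafData.ideal_pow, Pi.pow_apply]
    rw [pow_succ]
    refine Ideal.mul_mono_right fun g hg => ?_
    obtain ⟨y, hy⟩ := (fI.2 _).2 ⟨g, hg, rfl⟩
    obtain ⟨d, rfl⟩ := hσ (U x) y
    rw [map_sum] at hy
    have hg' : g = ∑ i, d i * c i := by
      refine (he x).coord_unique le_rfl ?_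
      rw [res_self, ← hy, Finset.sum_smul]
      refine Finset.sum_congr rfl fun i _ => ?_
      rw [Scheme.Modules.Hom.app_smul, app_res, hcσ i, mul_smul]
    rw [hg']
    exact Submodule.sum_mem _ fun i _ => Ideal.mul_mem_left _ _ (Ideal.subset_span ⟨i, rfl⟩)
  let Mset : Ideal Γ(X, (U x).1) :=
    { carrier := {a | ∀ z : Γ(pw I (N := N) (p + 1), (U x).1),
        (jMap (I ^ (p + 1)) (CohB1.tensorPow N (p + 1))).app (U x).1 z = a • tmul (ep x) (e x) → π.app (U x).1 z = 0} ∩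
        ((I ^ (p + 1)).ideal (U x) : Set Γ(X, (U x).1))
      zero_mem' := ⟨fun z hz => by
        rw [show z = 0 from f1.1 (hz.trans ((zero_smul _ _).trans (map_zero _).symm)), map_zero], zero_mem _⟩
      add_mem' := fun {a b} ha hb => ⟨fun z hz => by
        obtain ⟨za, hza⟩ := (f1.2 _).2 ⟨a, ha.2, rfl⟩
        obtain ⟨zb, hzb⟩ := (f1.2 _).2 ⟨b, hb.2, rfl⟩
        rw [show z = za + zb from f1.1 (by rw [hz, map_add, hza, hzb, add_smul]), map_add, ha.1 za hza,
          hb.1 zb hzb, add_zero], add_mem ha.2 hb.2⟩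
      smul_mem' := fun g a ha => ⟨fun z hz => by
        obtain ⟨za, hza⟩ := (f1.2 _).2 ⟨a, ha.2, rfl⟩
        rw [show z = g • za from f1.1 (by rw [hz, Scheme.Modules.Hom.app_smul, hza, smul_eq_mul, mul_smul]),
          Scheme.Modules.Hom.app_smul, ha.1 za hza, smul_zero], Ideal.mul_mem_left _ _ ha.2⟩ }
  have hM : (I ^ p).ideal (U x) * Ideal.span (Set.range c) ≤ Mset := by
    rw [Ideal.mul_le]
    intro b hb g hg
    induction hg using Submodule.span_induction with
    | mem _ h =>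
      obtain ⟨i, rfl⟩ := h
      refine ⟨key b hb i, ?_⟩
      simp only [SetLike.mem_coe, Scheme.IdealSheafData.ideal_pow, Pi.pow_apply] at hb ⊢
      rw [pow_succ]
      exact Ideal.mul_mem_mul hb (hc i)
    | zero => rw [mul_zero]; exact zero_mem _
    | add _ _ _ _ h h' => rw [mul_add]; exact add_mem h h'
    | smul g _ _ h => rw [smul_eq_mul, mul_left_comm]; exact Ideal.mul_mem_left _ _ h
  exact (hM (hle ha)).1 z hz

end Groth.Agent.PowReg

end
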