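import Groth.Agent.PowReg.System
import Groth.Agent.PowReg.IdealPow
import Groth.Agent.S19174

/-!
# Uniform vanishing for the powers of an ideal sheaf with globally generated twist
-/

set_option autoImplicit false
set_option linter.style.haveILetI false
set_option linter.unusedSectionVars false
set_option backward.isDefEq.respectTransparency false
set_option backward.isDefEq.respectTransparency.types false
set_option maxHeartbeats 1000000

universe u

open CategoryTheory CategoryTheory.Limits AlgebraicGeometry TopologicalSpace Opposite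
open Groth.Agent.InvX Groth.Agent.AModX

noncomputable section

attribute [local instance] Groth.Agent.QCoh.hasFiniteBiproducts

namespace Groth.Agent.PowReg

open Groth.Agent

/-- If `I ⊗ N` is generated by global sections, a fixed ample twist kills all higher cohomology
of all the `I^p ⊗ N^p`. -/
theorem exists_vanishing_powers (k : Type u) [Field k] {X : Scheme.{u}} [X.Over (Spec (CommRingCat.of k))]
    [IsProper (X ↘ Spec (CommRingCat.of k))] {L : X.Modules} (hL : CohB1.IsAmple L) {N : X.Modules}
    (hN : PicF.IsInvertible N) (I : X.IdealSheafData)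
    (hgg : Curv2.IsGloballyGenerated (CohB1.tensorMod (ClSub.idealMod I) N)) :
    ∃ e, ∀ j, e ≤ j → ∀ p q, Subsingleton (Coh.HH X (CohB1.tensorMod
      (CohB1.tensorMod (ClSub.idealMod (I ^ p)) (CohB1.tensorPow N p)) (CohB1.tensorPow L j)) (q + 1)) := by
  haveI := CurveCohLib.isNoetherian_of_proper (k := k) (X := X)
  haveI : Mono (ClSub.idealModι I) := by unfold ClSub.idealModι; infer_instance
  have hE : Coh.IsCoh (CohB1.tensorMod (ClSub.idealMod I) N) := AmpleVan.isCoh_tensor
    (QCoh.isCoh_of_mono (ClSub.idealModι I) QCoh.isCoh_structureModule' (isQCoh_idealMod I))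
    (AmpleVan.isCoh_invertible hN)
  obtain ⟨r, σ, hσ⟩ := CurveReg.exists_fin_epi k hE hgg
  haveI := hσ
  have hspan : ∀ (U : X.affineOpens) (y : Γ(CohB1.tensorMod (ClSub.idealMod I) N, U.1)),
      ∃ c : Fin r → Γ(X, U.1), y = ∑ i, c i • res _ (le_top : U.1 ≤ ⊤) (σ i) := by
    intro U y
    let P := biproduct.desc fun i => QCoh.homOfTop (σ i)
    obtain ⟨w, hw⟩ := QCoh.app_surjective_of_epi (CurveReg.isQCoh_sum' QCoh.isQCoh_structureModule) hE.1 P U.2 y
    refine ⟨fun i => (biproduct.π (fun _ : Fin r => Coh.structureModule X) i).app U.1 w, ?_⟩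
    simp only [P] at hw
    rw [← hw]
    refine (congrArg _ (CurveReg.sum_components (fun _ : Fin r => Coh.structureModule X) w)).trans ?_
    rw [map_sum]
    refine Finset.sum_congr rfl fun i _ => ?_
    refine Eq.trans ?_ (CurveReg.app_ofTop (σ i) U.1 _)
    exact congr(($(biproduct.ι_desc (fun j => QCoh.homOfTop (σ j)) i)).app U.1 _)
  obtain ⟨e, he⟩ := exists_uniform_vanishing (A := k) hL (powSys hN σ) (fun p => isCoh_powSys hN σ p)
    (genFrom_powSys hN σ hspan)
  exact ⟨e, he⟩

theorem twist_invertible (k : Type u) [Field k] (n : ℕ) (a : ℤ) :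
    PicF.IsInvertible (Twist.twistProjSpace n k a) :=
  (PnCoh.Finite.invertible_package (𝒜 := CohB1.polyGrading n k) (g := PnDual.coordsR k n)
    PnDual.coordsR_mem PnDual.coordsR_cover).1 a

open Groth.Agent.H23.PicMul in
theorem cl_twist_add (k : Type u) [Field k] (n : ℕ) (a b : ℤ) :
    PicF.cl (Twist.twistProjSpace n k (a + b)) =
      PicF.cl (Twist.twistProjSpace n k a) * PicF.cl (Twist.twistProjSpace n k b) := by
  rw [← cl_tensor]
  exact (cl_eq_iff.2 (PnCoh.Finite.twist_tensor_iso (𝒜 := CohB1.polyGrading n k) (PnDual.coordsR k n)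
    PnDual.coordsR_mem PnDual.coordsR_cover a b)).symm

open Groth.Agent.H23.PicMul in
theorem cl_twist_mul (k : Type u) [Field k] (n : ℕ) (a : ℤ) (p : ℕ) :
    PicF.cl (Twist.twistProjSpace n k (a * p)) = PicF.cl (Twist.twistProjSpace n k a) ^ p := by
  induction p with
  | zero =>
    rw [Nat.cast_zero, mul_zero, pow_zero]
    have h := cl_twist_add k n 0 0
    rw [add_zero] at h
    exact isUnit_cl (twist_invertible k n 0) |>.mul_eq_left.1 h.symm
  | succ p ih => rw [Nat.cast_succ, mul_add, mul_one, cl_twist_add, ih, pow_succ]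

end Groth.Agent.PowReg

end
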