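import Groth.Agent.FFun.GenSheaf
import Groth.Agent.AmpleVan.Uniform
import Groth.Agent.CurveCohLib.Proper

/-!
# Vanishing for all members of a coherent system generated in bounded degrees
-/

set_option autoImplicit false
set_option linter.style.haveILetI false
set_option linter.unusedSectionVars false
set_option backward.isDefEq.respectTransparency false
set_option backward.isDefEq.respectTransparency.types false
set_option maxHeartbeats 1000000

universe u

open CategoryTheory CategoryTheory.Limits AlgebraicGeometry TopologicalSpace Opposite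
open Groth.Agent.PnCoh.Finite (mapLin deltaLin)

noncomputable section

attribute [local instance] Groth.Agent.QCoh.hasFiniteBiproducts

namespace Groth.Agent.PowReg

open Groth.Agent Groth.Agent.FFun Groth.Agent.FFun.Gen

variable {A : Type u} [CommRing A] [IsNoetherianRing A] {X : Scheme.{u}}
  [X.Over (Spec (CommRingCat.of A))] [IsProper (X ↘ Spec (CommRingCat.of A))] {r : ℕ}

include A in
theorem subsingleton_twist_free {L E : X.Modules} (hL : PicF.IsInvertible L) (q n : ℕ)
    (h : Subsingleton (Coh.HH X (CohB1.tensorMod E L) q)) :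
    Subsingleton (Coh.HH X (CohB1.tensorMod (frG E r n) L) q) := by
  classical
  haveI := AmpleVan.isEquivalence_tw hL
  let T := fun _ : ULift.{u} (Sym (Fin r) n) => E
  refine subsingleton_of_forall_eq 0 fun x => ?_
  have h1 : (AmpleVan.tw L).map (𝟙 (⨁ T)) = ∑ b, (AmpleVan.tw L).map (biproduct.π T b) ≫ (AmpleVan.tw L).map (biproduct.ι T b) := by
    rw [← QCoh.biproduct_total', Functor.map_sum]
    exact Finset.sum_congr rfl fun b _ => Functor.map_comp _ _ _
  have h2 : ∀ (s : Finset (ULift.{u} (Sym (Fin r) n))) (y : Coh.HH X (CohB1.tensorMod (frG E r n) L) q),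
      mapLin A (∑ b ∈ s, (AmpleVan.tw L).map (biproduct.π T b) ≫ (AmpleVan.tw L).map (biproduct.ι T b)) q y = 0 := by
    intro s y
    induction s using Finset.induction with
    | empty =>
      rw [Finset.sum_empty]
      show Sheaf.H.map ((QCoh.toAbFunctor X).map 0) q y = 0
      rw [Functor.map_zero]
      show ((Sheaf.functorH _ q).map 0).hom y = 0
      rw [Functor.map_zero]
      rfl
    | insert a s ha ih =>
      rw [Finset.sum_insert ha]
      show Sheaf.H.map ((QCoh.toAbFunctor X).map (_ + _)) q y = _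
      rw [Functor.map_add, Sheaf.H.map_add_apply]
      have ha0 : mapLin A ((AmpleVan.tw L).map (biproduct.π T a) ≫ (AmpleVan.tw L).map (biproduct.ι T a)) q y = 0 := ?_
      refine (congrArg₂ _ ha0 ih).trans (add_zero _)
      rw [← FFun.mapLin_comp]
      have hz : mapLin A ((AmpleVan.tw L).map (biproduct.π T a)) q y = 0 := Subsingleton.elim (α := Coh.HH X (CohB1.tensorMod E L) q) _ _
      exact (congrArg _ hz).trans (map_zero _)
  have h3 := h2 Finset.univ x
  rw [← h1, CategoryTheory.Functor.map_id] at h3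
  refine Eq.trans ?_ h3
  show x = Sheaf.H.map ((QCoh.toAbFunctor X).map (𝟙 _)) q x
  rw [CategoryTheory.Functor.map_id, Sheaf.H.map_id_apply]

include A in
/-- Serre vanishing, uniformly over the members of a system generated in bounded degrees. -/
theorem exists_uniform_vanishing {L : X.Modules} (hL : CohB1.IsAmple L) (S : Sys X r)
    (hS : ∀ n, Coh.IsCoh (S.G n)) {d : ℕ} (hd : S.GenFrom d) :
    ∃ e, ∀ j, e ≤ j → ∀ n q, Subsingleton (Coh.HH X (CohB1.tensorMod (S.G n) (CohB1.tensorPow L j)) (q + 1)) := by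
  classical
  haveI : IsLocallyNoetherian X := LocallyOfFiniteType.isLocallyNoetherian (X ↘ Spec (CommRingCat.of A))
  haveI : CompactSpace X := AmpleVan.compactSpace_of_proper (A := A)
  haveI : X.IsSeparated := AmpleVan.isSeparated_of_proper (X := X) (A := A)
  haveI : AlgebraicGeometry.IsNoetherian X := {}
  obtain ⟨B, hB⟩ := QCoh.exists_HH_bound (X := X)
  have hcohT : ∀ {M : X.Modules}, Coh.IsCoh M → ∀ j, Coh.IsCoh (CohB1.tensorMod M (CohB1.tensorPow L j)) :=
    fun hM j => AmpleVan.isCoh_tensor hM (AmpleVan.isCoh_invertible (H23.PicMul.isInvertible_tensorPow hL.1 j))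
  suffices H : ∀ m q, B ≤ q + 1 + m → ∀ S : Sys X r, (∀ n, Coh.IsCoh (S.G n)) → ∀ d, S.GenFrom d →
      ∃ e, ∀ j, e ≤ j → ∀ n, Subsingleton (Coh.HH X (CohB1.tensorMod (S.G n) (CohB1.tensorPow L j)) (q + 1)) by
    choose e he using fun q => H B q (by omega) S hS d hd
    refine ⟨(Finset.range B).sup e, fun j hj n q => ?_⟩
    by_cases hq : q < B
    · exact he q j ((Finset.le_sup (Finset.mem_range.2 hq)).trans hj) n
    · exact hB _ (hcohT (hS n) j).1 (q + 1) (by omega)
  intro m
  induction m with
  | zero => exact fun q hq S hS d _ => ⟨0, fun j _ n => hB _ (hcohT (hS n) j).1 (q + 1) (by omega)⟩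
  | succ m ih =>
    intro q hq S hS d hd
    let W := S.shiftBy d
    have hW : ∀ n, Coh.IsCoh (W.G n) := fun n => hS (d + n)
    have hg : W.GenFrom 0 := S.genFrom_shiftBy hd
    have hF : ∀ n, Coh.IsCoh ((Sys.free (W.G 0) r).G n) := fun n => QCoh.isCoh_biproduct _ fun _ => hW 0
    obtain ⟨d', hd'⟩ := exists_genFrom_rel W hW
    obtain ⟨e₁, he₁⟩ := ih (q + 1) (by omega) W.rel (fun n => QCoh.isCoh_kernel (hF n) (hW n) _) d' hd'
    choose d₀ hd₀ using fun n => AmpleVan.exists_vanishing (A := A) hL (hS n)
    refine ⟨max e₁ ((Finset.range (d + 1)).sup d₀), fun j hj n => ?_⟩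
    rw [max_le_iff] at hj
    by_cases hn : n ≤ d
    · exact hd₀ n j ((Finset.le_sup (Finset.mem_range.2 (by omega))).trans hj.2) q
    obtain ⟨i, rfl⟩ := Nat.exists_eq_add_of_le (not_le.1 hn).le
    haveI := W.epi_aug hg i
    have hses : (ShortComplex.mk (kernel.ι (W.aug i)) (W.aug i) (kernel.condition _)).ShortExact :=
      { exact := ShortComplex.exact_kernel _, mono_f := inferInstance, epi_g := inferInstance }
    haveI := AmpleVan.isEquivalence_tw (H23.PicMul.isInvertible_tensorPow hL.1 j)
    have hT := hses.map_of_exact (AmpleVan.tw (CohB1.tensorPow L j))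
    have h0 : Subsingleton (Coh.HH X (CohB1.tensorMod (W.G 0) (CohB1.tensorPow L j)) (q + 1)) :=
      hd₀ d j ((Finset.le_sup (Finset.mem_range.2 (by omega))).trans hj.2) q
    haveI := subsingleton_twist_free (A := A) (r := r) (H23.PicMul.isInvertible_tensorPow hL.1 j) (q + 1) i h0
    haveI := he₁ j hj.1 i
    refine subsingleton_of_forall_eq 0 fun x => ?_
    have hx : deltaLin A hT (q + 1) x = 0 :=
      Subsingleton.elim (α := Coh.HH X (CohB1.tensorMod (W.rel.G i) (CohB1.tensorPow L j)) (q + 1 + 1)) _ _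
    obtain ⟨y, hy⟩ := PnCoh.Finite.exists_of_deltaLin_eq_zero A hT (q + 1) hx
    have hy0 : y = 0 :=
      Subsingleton.elim (α := Coh.HH X (CohB1.tensorMod (frG (W.G 0) r i) (CohB1.tensorPow L j)) (q + 1)) _ _
    rw [← hy, hy0, map_zero]

end Groth.Agent.PowReg

end
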